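/-
Faithfully flat descent of projectivity (helper33).
-/
import Groth.Agent.S6361
import Groth.Agent.MLDesc.Basic
import Groth.Agent.MLMod.Basic
import Mathlib.RingTheory.Flat.FaithfullyFlat.Algebra
import Mathlib.RingTheory.Flat.EquationalCriterion
import Mathlib.RingTheory.Flat.Stability
import Mathlib.LinearAlgebra.DirectSum.Finsupp

set_option autoImplicit false
universe u
open TensorProduct

namespace Groth.Agent.ProjDesc

/-- Projective modules are Mittag-Leffler. -/
theorem isMittagLeffler_of_projective (R : Type u) [CommRing R] (M : Type u) [AddCommGroup M]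
    [Module R M] [Module.Projective R M] : CAlg.IsMittagLeffler R M := by
  classical
  intro ι Q _ _
  obtain ⟨s, hs⟩ := ‹Module.Projective R M›.out
  have hs' : (Finsupp.linearCombination R id).comp s = (LinearMap.id : M →ₗ[R] M) :=
    LinearMap.ext hs
  rw [injective_iff_map_eq_zero]
  intro z hz
  have hfree : finsuppScalarLeft R (Π i, Q i) M (s.rTensor _ z) = 0 := by
    have key : ∀ (w : (M →₀ R) ⊗[R] (Π i, Q i)) (i : ι) (k : M),
        finsuppScalarLeft R (Π i, Q i) M w k i =
          finsuppScalarLeft R (Q i) M (piRightHom R R (M →₀ R) Q w i) k := by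
      intro w i k
      induction w using TensorProduct.induction_on with
      | zero => simp
      | tmul m q =>
        rw [piRightHom_tmul, finsuppScalarLeft_apply_tmul_apply, finsuppScalarLeft_apply_tmul_apply]
        rfl
      | add x y hx hy => simp only [map_add, Pi.add_apply, Finsupp.add_apply, hx, hy]
    ext k i
    rw [key, MLMod.piRightHom_rTensor, hz]
    simp
  have h0 : s.rTensor (Π i, Q i) z = 0 := by
    rwa [LinearEquiv.map_eq_zero_iff] at hfree
  have := congr_arg ((Finsupp.linearCombination R id).rTensor (Π i, Q i)) h0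
  rwa [← LinearMap.comp_apply, ← LinearMap.rTensor_comp, hs', LinearMap.rTensor_id, map_zero] at this

/-- A countably generated module in which every finite submodule is fixed by an endomorphism
factoring through a finite free module is projective. -/
theorem projective_of_countable_of_factor (R : Type u) [CommRing R] (M : Type u) [AddCommGroup M]
    [Module R M] (hc : CAlg.IsCountablyGenerated R M)
    (H : ∀ N : Submodule R M, N.FG →
      ∃ (k : ℕ) (b : M →ₗ[R] (Fin k → R)) (c : (Fin k → R) →ₗ[R] M), ∀ x ∈ N, c (b x) = x) :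
    Module.Projective R M := by
  classical
  obtain ⟨g, hg⟩ : ∃ g : ℕ → M, Submodule.span R (Set.range g) = ⊤ := by
    obtain ⟨s, hs, hspan⟩ := hc
    obtain ⟨g, hg⟩ := (hs.union (Set.countable_singleton (0 : M))).exists_eq_range ⟨0, Or.inr rfl⟩
    exact ⟨g, top_le_iff.mp (hspan ▸ Submodule.span_mono (hg ▸ Set.subset_union_left))⟩
  choose k b c hbc using H
  -- the submodules to be fixed at each stage
  let N : ℕ → {N : Submodule R M // N.FG} := fun n ↦ Nat.rec (motive := fun _ ↦ {N : Submodule R M // N.FG})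
    ⟨Submodule.span R {g 0}, Submodule.fg_span_singleton _⟩
    (fun n P ↦ ⟨P.1 ⊔ LinearMap.range (c P.1 P.2) ⊔ Submodule.span R {g (n + 1)},
      (P.2.sup (Module.Finite.iff_fg.mp inferInstance)).sup (Submodule.fg_span_singleton _)⟩) n
  have hmono : Monotone fun n ↦ (N n).1 :=
    monotone_nat_of_le_succ fun n ↦ le_sup_left.trans le_sup_left
  have hgN : ∀ n, g n ∈ (N n).1 := fun n ↦ by
    cases n with
    | zero => exact Submodule.mem_span_singleton_self _
    | succ n => exact Submodule.mem_sup_right (Submodule.mem_span_singleton_self _)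
  let e : ℕ → (M →ₗ[R] M) := fun n ↦ c _ (N n).2 ∘ₗ b _ (N n).2
  let u : ℕ → (M →ₗ[R] M) := fun n ↦ Nat.rec LinearMap.id (fun n w ↦ (LinearMap.id - e n) ∘ₗ w) n
  have he : ∀ n, ∀ x ∈ (N n).1, e n x = x := fun n x hx ↦ hbc _ _ x hx
  have hrange : ∀ n x, e n x ∈ (N (n + 1)).1 := fun n x ↦
    Submodule.mem_sup_left (Submodule.mem_sup_right ⟨_, rfl⟩)
  have hu_mem : ∀ n, ∀ x, x ∈ (N n).1 → u n x ∈ (N n).1 := by
    intro n x hx
    suffices ∀ m ≤ n, u m x ∈ (N n).1 from this n le_rfl
    intro m hm
    induction m with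
    | zero => exact hx
    | succ m ih =>
      change u m x - e m (u m x) ∈ _
      exact sub_mem (ih (Nat.le_of_succ_le hm)) (hmono hm (hrange m _))
  have hu_zero : ∀ n, ∀ x, x ∈ (N n).1 → ∀ m, n < m → u m x = 0 := by
    intro n x hx m hm
    induction m, hm using Nat.le_induction with
    | base =>
      change u n x - e n (u n x) = 0
      rw [he n _ (hu_mem n x hx), sub_self]
    | succ m _ ih =>
      change u m x - e m (u m x) = 0
      rw [ih, map_zero, sub_zero]
  have hev : ∀ x, ∃ n, ∀ m, n ≤ m → u m x = 0 := by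
    intro x
    have hx : x ∈ Submodule.span R (Set.range g) := hg ▸ trivial
    induction hx using Submodule.span_induction with
    | mem x hx =>
      obtain ⟨n, rfl⟩ := hx
      exact ⟨n + 1, fun m hm ↦ hu_zero n _ (hgN n) m hm⟩
    | zero => exact ⟨0, fun m _ ↦ map_zero _⟩
    | add x y _ _ hx hy =>
      obtain ⟨n₁, h₁⟩ := hx
      obtain ⟨n₂, h₂⟩ := hy
      exact ⟨max n₁ n₂, fun m hm ↦ by
        rw [map_add, h₁ m (le_of_max_le_left hm), h₂ m (le_of_max_le_right hm), add_zero]⟩
    | smul r x _ hx =>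
      obtain ⟨n, hn⟩ := hx
      exact ⟨n, fun m hm ↦ by rw [map_smul, hn m hm, smul_zero]⟩
  choose bound hbound using hev
  let comp : ℕ → Type u := fun n ↦ Fin (k _ (N n).2) → R
  let toSum : ∀ n, M →ₗ[R] comp n := fun n ↦ b _ (N n).2 ∘ₗ u n
  have hzero : ∀ x n, bound x ≤ n → toSum n x = 0 := fun x n hn ↦ by
    simp [toSum, hbound x n hn]
  have hsupp : ∀ x, ∀ n, toSum n x ≠ 0 → n ∈ Finset.range (bound x) := fun x n hn ↦
    Finset.mem_range.mpr (lt_of_not_ge fun h ↦ hn (hzero x n h))
  let incl : M →ₗ[R] DirectSum ℕ comp :=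
    { toFun := fun x ↦ ∑ n ∈ Finset.range (bound x), DirectSum.lof R ℕ comp n (toSum n x)
      map_add' := fun x y ↦ by
        let m := max (bound (x + y)) (max (bound x) (bound y))
        have ext : ∀ z, bound z ≤ m → ∑ n ∈ Finset.range (bound z), DirectSum.lof R ℕ comp n (toSum n z) =
            ∑ n ∈ Finset.range m, DirectSum.lof R ℕ comp n (toSum n z) := fun z hz ↦
          Finset.sum_subset (Finset.range_mono hz) fun n _ hn ↦ by
            rw [hzero z n (not_lt.mp (Finset.mem_range.not.mp hn)), map_zero]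
        rw [ext _ (le_max_left _ _), ext _ (le_max_of_le_right (le_max_left _ _)),
          ext _ (le_max_of_le_right (le_max_right _ _)), ← Finset.sum_add_distrib]
        simp only [map_add]
      map_smul' := fun r x ↦ by
        let m := max (bound (r • x)) (bound x)
        have ext : ∀ z, bound z ≤ m → ∑ n ∈ Finset.range (bound z), DirectSum.lof R ℕ comp n (toSum n z) =
            ∑ n ∈ Finset.range m, DirectSum.lof R ℕ comp n (toSum n z) := fun z hz ↦
          Finset.sum_subset (Finset.range_mono hz) fun n _ hn ↦ by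
            rw [hzero z n (not_lt.mp (Finset.mem_range.not.mp hn)), map_zero]
        rw [ext _ (le_max_left _ _), ext _ (le_max_right _ _), RingHom.id_apply, Finset.smul_sum]
        simp only [map_smul] }
  let proj : DirectSum ℕ comp →ₗ[R] M :=
    DirectSum.toModule R ℕ M fun n ↦ c _ (N n).2
  have hproj : proj ∘ₗ incl = LinearMap.id := by
    refine LinearMap.ext fun x ↦ ?_
    change proj (∑ n ∈ Finset.range (bound x), DirectSum.lof R ℕ comp n (toSum n x)) = x
    rw [map_sum]
    simp only [proj]
    rw [Finset.sum_congr rfl fun n _ ↦ DirectSum.toModule_lof (ι := ℕ) (M := comp) R n (toSum n x)]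
    have tel : ∀ m, (∑ n ∈ Finset.range m, c _ (N n).2 (toSum n x)) + u m x = x := by
      intro m
      induction m with
      | zero => simp [u]
      | succ m ih =>
        rw [Finset.sum_range_succ]
        change _ + e m (u m x) + (u m x - e m (u m x)) = x
        rw [add_assoc, add_sub_cancel, ih]
    have := tel (bound x)
    rwa [hbound x _ le_rfl, add_zero] at this
  exact Module.Projective.of_split incl proj hproj

/-- Countably generated flat Mittag-Leffler modules are projective. -/
theorem projective_of_countable (R : Type u) [CommRing R] (M : Type u) [AddCommGroup M]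
    [Module R M] [Module.Flat R M] (hML : CAlg.IsMittagLeffler R M)
    (hc : CAlg.IsCountablyGenerated R M) : Module.Projective R M := by
  refine projective_of_countable_of_factor R M hc fun N hN ↦ ?_
  have : Module.Finite R N := Module.Finite.iff_fg.mpr hN
  obtain ⟨Q, _, _, _, b, c, hbc⟩ := Groth.Agent.S6361.result R M hML hc N.subtype
  obtain ⟨k, a, y, hay⟩ := Module.Flat.exists_factorization_of_finitePresentation c
  let E := Finsupp.linearEquivFunOnFinite R R (Fin k)
  refine ⟨k, E.toLinearMap ∘ₗ a ∘ₗ b, y ∘ₗ E.symm.toLinearMap, fun x hx ↦ ?_⟩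
  have := congr($hbc ⟨x, hx⟩)
  simp only [LinearMap.comp_apply, LinearEquiv.coe_coe, LinearEquiv.symm_apply_apply]
  rw [← LinearMap.comp_apply y a, ← hay]
  exact this

/-- Flatness descends along faithfully flat ring maps. -/
theorem flat_of_faithfullyFlat (R S : Type u) [CommRing R] [CommRing S] [Algebra R S]
    [Module.FaithfullyFlat R S] (M : Type u) [AddCommGroup M] [Module R M]
    [Module.Flat S (S ⊗[R] M)] : Module.Flat R M := by
  have : Module.Flat R (S ⊗[R] M) := Module.Flat.trans R S _
  rw [Module.Flat.iff_lTensor_preserves_injective_linearMap]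
  intro A B _ _ _ _ f hf
  rw [injective_iff_map_eq_zero]
  intro z hz
  have key : ∀ w : M ⊗[R] A, (f.lTensor (S ⊗[R] M)) ((TensorProduct.assoc R S M A).symm (1 ⊗ₜ w)) =
      (TensorProduct.assoc R S M B).symm (1 ⊗ₜ f.lTensor M w) := by
    intro w
    induction w using TensorProduct.induction_on with
    | zero => simp
    | tmul m a => simp
    | add x y hx hy => simp only [tmul_add, map_add, hx, hy]
  have h1 : (1 : S) ⊗ₜ[R] z = 0 := by
    refine (TensorProduct.assoc R S M A).symm.injective ?_
    refine Module.Flat.lTensor_preserves_injective_linearMap (M := S ⊗[R] M) f hf ?_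
    rw [key, hz, tmul_zero, map_zero, map_zero, map_zero]
  exact Module.FaithfullyFlat.tensorProduct_mk_injective (A := R) (B := S) (M ⊗[R] A)
    (h1.trans (tmul_zero _ _).symm)

section Descent

variable (R S : Type u) [CommRing R] [CommRing S] [Algebra R S] {M : Type u} [AddCommGroup M]
  [Module R M]

/-- The image of `S ⊗ N` in `S ⊗ M`. -/
noncomputable abbrev img (N : Submodule R M) : Submodule S (S ⊗[R] M) :=
  LinearMap.range (N.subtype.baseChange S)

theorem img_mono {N N' : Submodule R M} (h : N ≤ N') : img R S N ≤ img R S N' := by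
  rintro _ ⟨z, rfl⟩
  refine ⟨(Submodule.inclusion h).baseChange S z, ?_⟩
  rw [← LinearMap.comp_apply, ← LinearMap.baseChange_comp]
  rfl

theorem one_tmul_mem_img {N : Submodule R M} {x : M} (hx : x ∈ N) : (1 : S) ⊗ₜ[R] x ∈ img R S N :=
  ⟨1 ⊗ₜ ⟨x, hx⟩, rfl⟩

theorem img_le_of_forall {N : Submodule R M} {P : Submodule S (S ⊗[R] M)}
    (h : ∀ x ∈ N, (1 : S) ⊗ₜ[R] x ∈ P) : img R S N ≤ P := by
  rintro _ ⟨z, rfl⟩
  induction z using TensorProduct.induction_on with
  | zero => simp
  | tmul a n =>
    rw [LinearMap.baseChange_tmul, ← mul_one a, ← smul_eq_mul, ← TensorProduct.smul_tmul']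
    exact P.smul_mem a (h _ n.2)
  | add x y hx hy => rw [map_add]; exact P.add_mem hx hy

theorem exists_finset_mem_img (z : S ⊗[R] M) :
    ∃ D : Finset M, z ∈ img R S (Submodule.span R (D : Set M)) := by
  classical
  obtain ⟨F, rfl⟩ := TensorProduct.exists_finset z
  refine ⟨F.image Prod.snd, Submodule.sum_mem _ fun i hi ↦ ?_⟩
  rw [← mul_one i.1, ← smul_eq_mul, ← TensorProduct.smul_tmul']
  exact Submodule.smul_mem _ _ (one_tmul_mem_img R S
    (Submodule.subset_span (Finset.mem_image_of_mem _ hi)))

end Descent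

/-- Projectivity descends along faithfully flat ring maps. -/
theorem projective_of_baseChange (R S : Type u) [CommRing R] [CommRing S] [Algebra R S]
    [Module.FaithfullyFlat R S] (M : Type u) [AddCommGroup M] [Module R M]
    [Module.Projective S (S ⊗[R] M)] : Module.Projective R M := by
  classical
  obtain ⟨s, hs⟩ := ‹Module.Projective S (S ⊗[R] M)›.out
  let π := Finsupp.linearCombination S (id : S ⊗[R] M → S ⊗[R] M)
  have hπs : ∀ z, π (s z) = z := hs
  let Closed : Submodule R M → Prop := fun N ↦ ∃ J : Set (S ⊗[R] M),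
    (∀ z ∈ img R S N, s z ∈ Finsupp.supported S S J) ∧ ∀ w ∈ Finsupp.supported S S J, π w ∈ img R S N
  refine Module.Projective.of_lifting_property'' ?_
  intro g hg
  let U := M →₀ R
  let P : Set (Submodule R (M × U)) := {G | (∀ p ∈ G, g p.2 = p.1) ∧
    (∀ p ∈ G, p.1 = 0 → p.2 = 0) ∧ Closed (G.map (LinearMap.fst R M U))}
  have hbot : (⊥ : Submodule R (M × U)) ∈ P := by
    refine ⟨fun p hp ↦ ?_, fun p hp _ ↦ ?_, ∅, fun z hz ↦ ?_, fun w hw ↦ ?_⟩
    · rw [(Submodule.mem_bot R).mp hp]; simp
    · rw [(Submodule.mem_bot R).mp hp]; simp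
    · have : img R S ((⊥ : Submodule R (M × U)).map (LinearMap.fst R M U)) = ⊥ := by
        refine eq_bot_iff.mpr (img_le_of_forall R S fun x hx ↦ ?_)
        rw [Submodule.map_bot, Submodule.mem_bot] at hx
        rw [hx, tmul_zero]; exact zero_mem _
      rw [this, Submodule.mem_bot] at hz
      rw [hz, map_zero]; exact zero_mem _
    · rw [Finsupp.supported_empty, Submodule.mem_bot] at hw
      rw [hw, map_zero]; exact zero_mem _
  obtain ⟨G, -, hG⟩ := zorn_le_nonempty₀ P (fun C hCP hC y hy ↦ by
    refine ⟨sSup C, ?_, fun z hz ↦ le_sSup hz⟩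
    have hmem : ∀ p, p ∈ sSup C → ∃ G ∈ C, p ∈ G := fun p hp ↦
      (Submodule.mem_sSup_of_directed ⟨y, hy⟩ hC.directedOn).mp hp
    refine ⟨fun p hp ↦ ?_, fun p hp h0 ↦ ?_, ?_⟩
    · obtain ⟨G, hG, hpG⟩ := hmem p hp; exact (hCP hG).1 p hpG
    · obtain ⟨G, hG, hpG⟩ := hmem p hp; exact (hCP hG).2.1 p hpG h0
    choose J hJ₁ hJ₂ using fun G : C ↦ (hCP G.2).2.2
    refine ⟨⋃ G, J G, fun z hz ↦ ?_, fun w hw ↦ ?_⟩
    · have hle : img R S ((sSup C).map (LinearMap.fst R M U)) ≤
          (Finsupp.supported S S (⋃ G, J G)).comap s := by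
        refine img_le_of_forall R S ?_
        rintro _ ⟨p, hp, rfl⟩
        obtain ⟨G, hG, hpG⟩ := hmem p hp
        exact Finsupp.supported_mono (Set.subset_iUnion J ⟨G, hG⟩)
          (hJ₁ ⟨G, hG⟩ _ (one_tmul_mem_img R S ⟨p, hpG, rfl⟩))
      exact hle hz
    · rw [Finsupp.supported_iUnion] at hw
      refine (iSup_le (fun G : C ↦ ?_) :
        ⨆ G, Finsupp.supported S S (J G) ≤ (img R S ((sSup C).map _)).comap π) hw
      exact fun w hw ↦ img_mono R S (Submodule.map_mono (le_sSup G.2)) (hJ₂ G w hw)) ⊥ hbot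
  obtain ⟨hG₁, hG₂, J, hJ₁, hJ₂⟩ := hG.prop
  -- the projection of `G` is everything
  have htop : G.map (LinearMap.fst R M U) = ⊤ := by
    by_contra hne
    obtain ⟨x, -, hx⟩ := SetLike.exists_of_lt (lt_top_iff_ne_top.mpr hne)
    set N := G.map (LinearMap.fst R M U) with hN
    choose D hD using exists_finset_mem_img R S (M := M)
    let Cn : ℕ → Set M := fun n ↦ Nat.rec {x}
      (fun _ C ↦ C ∪ ⋃ c ∈ C, ⋃ i ∈ (s ((1 : S) ⊗ₜ[R] c)).support, ((D i : Finset M) : Set M)) n
    have hCn : ∀ n, (Cn n).Countable := by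
      intro n
      induction n with
      | zero => exact Set.countable_singleton x
      | succ n ih =>
        exact ih.union (ih.biUnion fun c _ ↦
          (Finset.countable_toSet _).biUnion fun i _ ↦ Finset.countable_toSet _)
    let C' : Set M := ⋃ n, Cn n
    let N' := N ⊔ Submodule.span R C'
    let J' : Set (S ⊗[R] M) := J ∪ ⋃ c ∈ C', ((s ((1 : S) ⊗ₜ[R] c)).support : Set _)
    have hJ₁' : ∀ z ∈ img R S N', s z ∈ Finsupp.supported S S J' := by
      have : N' ≤ (((Finsupp.supported S S J').comap s).restrictScalars R).comap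
          (TensorProduct.mk R S M 1) := by
        refine sup_le (fun a ha ↦ ?_) (Submodule.span_le.mpr fun c hc ↦ ?_)
        · exact Finsupp.supported_mono Set.subset_union_left (hJ₁ _ (one_tmul_mem_img R S ha))
        · refine (Finsupp.mem_supported S _).mpr fun i hi ↦ Or.inr ?_
          exact Set.mem_biUnion hc hi
      exact fun z hz ↦ img_le_of_forall R S (P := (Finsupp.supported S S J').comap s)
        (fun a ha ↦ this ha) hz
    have hsingle : ∀ i ∈ J', π (Finsupp.single i 1) ∈ img R S N' := by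
      rintro i (hi | hi)
      · exact img_mono R S le_sup_left (hJ₂ _ (Finsupp.single_mem_supported S 1 hi))
      · obtain ⟨c, hc, hi⟩ := Set.mem_iUnion₂.mp hi
        obtain ⟨n, hn⟩ := Set.mem_iUnion.mp hc
        simp only [π, Finsupp.linearCombination_single, one_smul, id]
        refine img_mono R S (Submodule.span_le.mpr fun d hd ↦ ?_) (hD i)
        exact Submodule.mem_sup_right (Submodule.subset_span (Set.mem_iUnion.mpr
          ⟨n + 1, Or.inr (Set.mem_biUnion hn (Set.mem_biUnion hi hd))⟩))
    have hJ₂' : ∀ w ∈ Finsupp.supported S S J', π w ∈ img R S N' := by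
      intro w hw
      rw [Finsupp.supported_eq_span_single] at hw
      induction hw using Submodule.span_induction with
      | mem w hw => obtain ⟨i, hi, rfl⟩ := hw; exact hsingle i hi
      | zero => rw [map_zero]; exact zero_mem _
      | add a b _ _ ha hb => rw [map_add]; exact add_mem ha hb
      | smul r a _ ha => rw [map_smul]; exact Submodule.smul_mem _ r ha
    -- the quotient
    let N₀ : Submodule R N' := N.comap N'.subtype
    let ι := N'.subtype.baseChange S
    let q := (N₀.mkQ).baseChange S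
    have hι : Function.Injective ι :=
      Module.Flat.lTensor_preserves_injective_linearMap (M := S) _ N'.injective_subtype
    have hqsurj : Function.Surjective q :=
      LinearMap.lTensor_surjective S N₀.mkQ_surjective
    have hker : ∀ t, q t = 0 ↔ ι t ∈ img R S N := by
      intro t
      have hex : Function.Exact (N₀.subtype.baseChange S) q :=
        lTensor_exact S (LinearMap.exact_subtype_mkQ N₀) N₀.mkQ_surjective
      rw [hex]
      let j : N₀ →ₗ[R] N := (N'.subtype ∘ₗ N₀.subtype).codRestrict N fun a ↦ a.2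
      have hj : ∀ v, ι (N₀.subtype.baseChange S v) = N.subtype.baseChange S (j.baseChange S v) := by
        intro v
        rw [← LinearMap.comp_apply, ← LinearMap.baseChange_comp, ← LinearMap.comp_apply,
          ← LinearMap.baseChange_comp]
        rfl
      constructor
      · rintro ⟨v, rfl⟩; exact ⟨_, (hj v).symm⟩
      · rintro ⟨v, hv⟩
        let i : N →ₗ[R] N₀ := (Submodule.inclusion le_sup_left).codRestrict N₀ fun a ↦ a.2
        refine ⟨i.baseChange S v, hι ?_⟩
        rw [← hv, ← LinearMap.comp_apply, ← LinearMap.baseChange_comp, ← LinearMap.comp_apply,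
          ← LinearMap.baseChange_comp]
        rfl
    have hpre : ∀ i : S ⊗[R] M, ∃ t, i ∈ J' → ι t = π (Finsupp.single i 1) := fun i ↦ by
      by_cases hi : i ∈ J'
      · obtain ⟨t, ht⟩ := hsingle i hi; exact ⟨t, fun _ ↦ ht⟩
      · exact ⟨0, fun h ↦ absurd h hi⟩
    choose pre hpre using hpre
    let γ := Finsupp.linearCombination S pre
    have hγ : ∀ w ∈ Finsupp.supported S S J', ι (γ w) = π w := by
      intro w hw
      rw [Finsupp.supported_eq_span_single] at hw
      induction hw using Submodule.span_induction with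
      | mem w hw =>
        obtain ⟨i, hi, rfl⟩ := hw
        simp only [γ, Finsupp.linearCombination_single, one_smul, hpre i hi]
      | zero => simp
      | add a b _ _ ha hb => simp only [map_add, ha, hb]
      | smul r a _ ha => simp only [map_smul, ha]
    let β := q ∘ₗ γ
    have hβJ : ∀ w ∈ Finsupp.supported S S J, β w = 0 := fun w hw ↦ by
      rw [LinearMap.comp_apply, hker, hγ w (Finsupp.supported_mono Set.subset_union_left hw)]
      exact hJ₂ w hw
    let flt : (S ⊗[R] M →₀ S) →ₗ[S] (S ⊗[R] M →₀ S) :=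
      { toFun := fun w ↦ w.filter (· ∉ J)
        map_add' := fun a b ↦ Finsupp.filter_add
        map_smul' := fun r a ↦ Finsupp.filter_smul }
    let α₀ := flt ∘ₗ s ∘ₗ ι
    have hα₀ : ∀ t, q t = 0 → α₀ t = 0 := by
      intro t ht
      have := hJ₁ _ ((hker t).mp ht)
      exact (Finsupp.filter_eq_zero_iff _ _).mpr fun i hi ↦
        (Finsupp.mem_supported' S _).mp this i hi
    have hβα : ∀ t, β (α₀ t) = q t := by
      intro t
      have hw : s (ι t) ∈ Finsupp.supported S S J' := hJ₁' _ ⟨t, rfl⟩
      have h0 : β ((s (ι t)).filter (· ∈ J)) = 0 :=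
        hβJ _ ((Finsupp.mem_supported' S _).mpr fun i hi ↦ Finsupp.filter_apply_neg _ _ hi)
      calc β (α₀ t) = β ((s (ι t)).filter (· ∈ J)) + β ((s (ι t)).filter (· ∉ J)) := by
            rw [h0, zero_add]; rfl
        _ = β (s (ι t)) := by rw [← map_add, Finsupp.filter_add_filter_not]
        _ = q t := by
            change q (γ (s (ι t))) = q t
            congr 1
            apply hι
            rw [hγ _ hw, hπs]
    obtain ⟨α, hα⟩ : ∃ α : S ⊗[R] (N' ⧸ N₀) →ₗ[S] (S ⊗[R] M →₀ S), α ∘ₗ q = α₀ := by
      let e := LinearMap.quotKerEquivOfSurjective q hqsurj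
      refine ⟨(LinearMap.ker q).liftQ α₀ (fun t ht ↦ hα₀ t ht) ∘ₗ e.symm.toLinearMap,
        LinearMap.ext fun t ↦ ?_⟩
      have : e.symm (q t) = Submodule.Quotient.mk t := by
        rw [LinearEquiv.symm_apply_eq]; rfl
      simp [this]
    have : Module.Projective S (S ⊗[R] (N' ⧸ N₀)) := by
      refine Module.Projective.of_split α β (LinearMap.ext fun z ↦ ?_)
      obtain ⟨t, rfl⟩ := hqsurj z
      rw [LinearMap.comp_apply, ← LinearMap.comp_apply α q, hα, hβα]
      rfl
    have : Module.Flat R (N' ⧸ N₀) := flat_of_faithfullyFlat R S _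
    have hML : CAlg.IsMittagLeffler R (N' ⧸ N₀) :=
      MLDesc.isMittagLeffler_of_baseChange R S (isMittagLeffler_of_projective S _)
    have hcg : CAlg.IsCountablyGenerated R (N' ⧸ N₀) := by
      refine ⟨N₀.mkQ '' (N'.subtype ⁻¹' C'), ((Set.countable_iUnion hCn).preimage
        N'.injective_subtype).image _, eq_top_iff.mpr fun z _ ↦ ?_⟩
      obtain ⟨⟨a, ha⟩, rfl⟩ := N₀.mkQ_surjective z
      obtain ⟨n, hn, v, hv, rfl⟩ := Submodule.mem_sup.mp ha
      have hn0 : N₀.mkQ ⟨n + v, ha⟩ = N₀.mkQ ⟨v, Submodule.mem_sup_right hv⟩ := by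
        rw [Submodule.mkQ_apply, Submodule.mkQ_apply, Submodule.Quotient.eq]
        change n + v - v ∈ N
        rwa [add_sub_cancel_right]
      rw [hn0, ← Submodule.map_span]
      refine Submodule.mem_map_of_mem ?_
      have hrange : C' ⊆ LinearMap.range N'.subtype := fun c hc ↦
        ⟨⟨c, Submodule.mem_sup_right (Submodule.subset_span hc)⟩, rfl⟩
      have : v ∈ (Submodule.span R (N'.subtype ⁻¹' C')).map N'.subtype := by
        rw [Submodule.map_span, Set.image_preimage_eq_of_subset hrange]
        exact hv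
      obtain ⟨v', hv', hv''⟩ := this
      have : v' = ⟨v, Submodule.mem_sup_right hv⟩ := Subtype.ext hv''
      exact this ▸ hv'
    have := projective_of_countable R (N' ⧸ N₀) hML hcg
    obtain ⟨σ, hσ⟩ := Module.projective_lifting_property N₀.mkQ LinearMap.id N₀.mkQ_surjective
    obtain ⟨lam, hlam⟩ := Module.projective_lifting_property g (N'.subtype ∘ₗ σ) hg
    let G' := G ⊔ LinearMap.range ((N'.subtype ∘ₗ σ).prod lam)
    have hG' : G'.map (LinearMap.fst R M U) = N' := by
      rw [Submodule.map_sup, ← LinearMap.range_comp, LinearMap.fst_prod]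
      refine le_antisymm (sup_le le_sup_left ?_) fun a ha ↦ ?_
      · rintro _ ⟨z, rfl⟩; exact (σ z).2
      · refine Submodule.mem_sup.mpr ⟨a - (σ (N₀.mkQ ⟨a, ha⟩)).1, ?_, _, ⟨_, rfl⟩, sub_add_cancel _ _⟩
        have : (⟨a, ha⟩ : N') - σ (N₀.mkQ ⟨a, ha⟩) ∈ N₀ := by
          rw [← Submodule.Quotient.eq]
          exact congr($hσ.symm (N₀.mkQ ⟨a, ha⟩))
        exact this
    have hmem : G' ∈ P := by
      refine ⟨fun p hp ↦ ?_, fun p hp h0 ↦ ?_, ?_⟩
      · obtain ⟨p₁, hp₁, _, ⟨z, rfl⟩, rfl⟩ := Submodule.mem_sup.mp hp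
        simp only [Prod.snd_add, Prod.fst_add, map_add, hG₁ p₁ hp₁, LinearMap.prod_apply]
        rw [add_right_inj]
        exact congr($hlam z)
      · obtain ⟨p₁, hp₁, _, ⟨z, rfl⟩, rfl⟩ := Submodule.mem_sup.mp hp
        have hz : z = 0 := by
          have h1 : (σ z).1 ∈ N := by
            have : p₁.1 + (σ z).1 = 0 := h0
            rw [eq_neg_of_add_eq_zero_right this]
            exact N.neg_mem ⟨p₁, hp₁, rfl⟩
          have h2 : N₀.mkQ (σ z) = 0 := (Submodule.Quotient.mk_eq_zero N₀).mpr h1
          rwa [← LinearMap.comp_apply, hσ] at h2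
        subst hz
        simp only [map_zero, add_zero] at h0 ⊢
        exact hG₂ p₁ hp₁ h0
      · rw [hG']; exact ⟨J', hJ₁', hJ₂'⟩
    have : G' ≤ G := hG.2 hmem le_sup_left
    apply hx
    have hxN : x ∈ N' := Submodule.mem_sup_right (Submodule.subset_span
      (Set.mem_iUnion.mpr ⟨0, rfl⟩))
    rw [← hG'] at hxN
    exact Submodule.map_mono this hxN
  have hex : ∀ m : M, ∃ v : U, (m, v) ∈ G := fun m ↦ by
    obtain ⟨p, hp, rfl⟩ : m ∈ G.map (LinearMap.fst R M U) := htop ▸ trivial
    exact ⟨p.2, hp⟩
  choose l hl using hex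
  have huniq : ∀ m v, (m, v) ∈ G → v = l m := fun m v hv ↦ by
    have := hG₂ _ (G.sub_mem hv (hl m)) (sub_self m)
    exact sub_eq_zero.mp this
  exact ⟨{ toFun := l
           map_add' := fun a b ↦ (huniq _ _ (G.add_mem (hl a) (hl b))).symm
           map_smul' := fun r a ↦ (huniq _ _ (G.smul_mem r (hl a))).symm },
    LinearMap.ext fun m ↦ hG₁ _ (hl m)⟩

end Groth.Agent.ProjDesc
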